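import Cfsg.Agent.ChevSimple.Two.Cert
import Cfsg.Agent.Chevalley.Element

/-!
# Packed matrices over the field with two elements, and `G(F)` for `|F| = 2`
-/

set_option autoImplicit false

namespace CfsgLib.ChevSimple.Two

open Cfsg.Lie CfsgLib.Chevalley
open scoped MatrixGroups

variable {D : ChevalleyDatum}

/-- The size of the matrices. -/
def dim (D : ChevalleyDatum) : ℕ := D.rank + D.nroots

/-- The position of a coordinate. -/
def pos (a : D.Idx) : ℕ := (finSumFinEquiv a : Fin (D.rank + D.nroots))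

/-- The entry at `j` of a packed row. -/
def bit (r j : ℕ) : ZMod 2 := bif r.testBit j then 1 else 0

/-- The matrix of a code: `dim` rows of `dim` bits. -/
def toMat (D : ChevalleyDatum) (K : ℕ) : Matrix D.Idx D.Idx (ZMod 2) :=
  Matrix.of fun a b => bit (digit (dim D) K (pos a)) (pos b)

/-- A row times a matrix. -/
def rowMul (n r L : ℕ) : ℕ → ℕ
  | 0 => 0
  | k + 1 => bif r.testBit k then rowMul n r L k ^^^ digit n L k else rowMul n r L k

/-- The product of codes. -/
def mulC (n K L : ℕ) : ℕ := pack n (fun a => rowMul n (digit n K a) L n) n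

/-- The code of the identity. -/
def oneC (n : ℕ) : ℕ := pack n (fun a => 2 ^ a) n

theorem bit_xor (x y j : ℕ) : bit (x ^^^ y) j = bit x j + bit y j := by
  rw [bit, bit, bit, Nat.testBit_xor]
  cases x.testBit j <;> cases y.testBit j <;> decide

theorem bit_rowMul (n r L j : ℕ) : ∀ m,
    bit (rowMul n r L m) j = ∑ k ∈ Finset.range m, bit r k * bit (digit n L k) j
  | 0 => by simp [rowMul, bit]
  | m + 1 => by
    rw [Finset.sum_range_succ, ← bit_rowMul n r L j m, rowMul]
    conv_rhs => arg 2; arg 1; rw [bit]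
    cases r.testBit m with
    | true => simp [bit_xor]
    | false => simp

theorem bit_mod (x n j : ℕ) (h : j < n) : bit (x % 2 ^ n) j = bit x j := by
  rw [bit, bit, Nat.testBit_mod_two_pow]
  simp [h]

theorem pos_lt (a : D.Idx) : pos a < dim D := Fin.isLt _

theorem sum_pos {M : Type*} [AddCommMonoid M] (f : ℕ → M) :
    ∑ a : D.Idx, f (pos a) = ∑ k ∈ Finset.range (dim D), f k := by
  rw [dim, ← Fin.sum_univ_eq_sum_range, ← Equiv.sum_comp finSumFinEquiv]
  rfl

theorem toMat_mulC (K L : ℕ) : toMat D (mulC (dim D) K L) = toMat D K * toMat D L := by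
  ext a b
  rw [Matrix.mul_apply]
  simp only [toMat, Matrix.of_apply, mulC]
  rw [digit_pack _ _ _ _ (pos_lt a), bit_mod _ _ _ (pos_lt b), bit_rowMul,
    sum_pos (fun k => bit (digit (dim D) K (pos a)) k * bit (digit (dim D) L k) (pos b))]

theorem toMat_oneC : toMat D (oneC (dim D)) = 1 := by
  ext a b
  simp only [toMat, Matrix.of_apply, oneC]
  rw [digit_pack _ _ _ _ (pos_lt a), bit_mod _ _ _ (pos_lt b), bit, Nat.testBit_two_pow,
    Matrix.one_apply]
  by_cases h : a = b
  · simp [h]
  · have : pos a ≠ pos b := fun e => h (finSumFinEquiv.injective (Fin.ext e))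
    simp [h, this]

theorem toMat_inj (K L : ℕ) (hK : K < 2 ^ (dim D * dim D)) (hL : L < 2 ^ (dim D * dim D))
    (h : toMat D K = toMat D L) : K = L := by
  refine eq_of_digit_eq (dim D) (dim D) K L hK hL fun a ha => Nat.eq_of_testBit_eq fun j => ?_
  by_cases hj : j < dim D
  · have := congrFun (congrFun h (finSumFinEquiv.symm ⟨a, ha⟩)) (finSumFinEquiv.symm ⟨j, hj⟩)
    simp only [toMat, Matrix.of_apply, pos, Equiv.apply_symm_apply, bit] at this
    revert this
    cases (digit (dim D) K a).testBit j <;> cases (digit (dim D) L a).testBit j <;> simp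
  · have hp : 2 ^ dim D ≤ 2 ^ j := Nat.pow_le_pow_right (by norm_num) (by omega)
    rw [Nat.testBit_lt_two_pow ((digit_lt _ _ _).trans_le hp),
      Nat.testBit_lt_two_pow ((digit_lt _ _ _).trans_le hp)]

/-- A list of root elements as a product of their codes. -/
def wordC (n : ℕ) (X : ℕ → ℕ) (w : List ℕ) : ℕ := w.foldl (fun K r => mulC n K (X r)) (oneC n)

variable (hD : Good D)

/-- The root element with parameter `1` over the field with two elements. -/
def X2 (r : ℕ) : GL D.Idx (ZMod 2) := if h : r < D.nroots then X hD ⟨r, h⟩ 1 else 1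

/-- The product of root elements with parameter `1`. -/
def wordX (w : List ℕ) : GL D.Idx (ZMod 2) := (w.map (X2 hD)).prod

theorem wordX_mem (w : List ℕ) : wordX hD w ∈ D.group (ZMod 2) := by
  refine list_prod_mem fun g hg => ?_
  obtain ⟨r, -, rfl⟩ := List.mem_map.1 hg
  unfold X2
  split
  exacts [X_mem_group hD _ _, one_mem _]

theorem coe_wordX (x : ℕ → ℕ) (hx : ∀ r < D.nroots, toMat D (x r) = D.x (ZMod 2) r 1)
    (w : List ℕ) (hw : ∀ r ∈ w, r < D.nroots) :
    ((wordX hD w : GL D.Idx (ZMod 2)) : Matrix D.Idx D.Idx (ZMod 2)) =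
      toMat D (wordC (dim D) x w) := by
  have key : ∀ K, toMat D K * ((w.map (X2 hD)).prod : GL D.Idx (ZMod 2)).val =
      toMat D (w.foldl (fun K r => mulC (dim D) K (x r)) K) := by
    induction w with
    | nil => simp
    | cons r w ih =>
      intro K
      have hr := hw r (List.mem_cons_self ..)
      rw [List.foldl_cons, ← ih (fun s hs => hw s (List.mem_cons_of_mem _ hs)), toMat_mulC,
        List.map_cons, List.prod_cons, Units.val_mul, ← mul_assoc, X2, dif_pos hr, coe_X,
        hx r hr, ← x_eq_xR hD (ZMod 2) ⟨r, hr⟩]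
  have := key (oneC (dim D))
  rwa [toMat_oneC, one_mul] at this

theorem group_two_eq_closure :
    D.group (ZMod 2) = Subgroup.closure (Set.range fun r : Root D => X hD r (1 : ZMod 2)) := by
  rw [group_eq_closure hD]
  refine le_antisymm ?_ (Subgroup.closure_mono fun g ⟨r, e⟩ => ⟨r, 1, e⟩)
  rw [Subgroup.closure_le]
  rintro g ⟨r, t, rfl⟩
  have ht : t = 0 ∨ t = 1 := by revert t; decide
  rcases ht with rfl | rfl
  · rw [X_zero]; exact one_mem _
  · exact Subgroup.subset_closure ⟨r, rfl⟩

/-- `G(F) ≅ G(ZMod 2)` for a field with two elements. -/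
theorem group_equiv_of_card_two (hD : Good D) {F : Type*} [Field F] [Fintype F]
    (hF : Fintype.card F = 2) : Nonempty (↥(D.group F) ≃* ↥(D.group (ZMod 2))) := by
  let e : ZMod 2 ≃+* F := FiniteField.ringEquivOfCardEq (by simp [hF])
  let f : GL D.Idx (ZMod 2) →* GL D.Idx F := Matrix.GeneralLinearGroup.map e.toRingHom
  have hf : Function.Injective f := fun a b h => Units.ext <| Matrix.ext fun i j =>
    e.injective (congrArg (fun g : GL D.Idx F => (g : Matrix D.Idx D.Idx F) i j) h)
  have hmap : (D.group (ZMod 2)).map f = D.group F := by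
    rw [group_eq_closure hD, group_eq_closure hD, MonoidHom.map_closure]
    congr 1
    ext g
    constructor
    · rintro ⟨_, ⟨r, t, rfl⟩, rfl⟩
      exact ⟨r, e t, (X_map hD e.toRingHom r t).symm⟩
    · rintro ⟨r, t, rfl⟩
      refine ⟨_, ⟨r, e.symm t, rfl⟩, ?_⟩
      rw [X_map hD e.toRingHom r (e.symm t)]
      simp
  exact ⟨((Subgroup.equivMapOfInjective _ f hf).trans (MulEquiv.subgroupCongr hmap)).symm⟩

end CfsgLib.ChevSimple.Two
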