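import Mathlib

/-!
# Multiplication tables of matched pairs of group elements

A table lists the subgroup generated by two pairs in a product of two groups; when both coordinates
are injective it gives an isomorphism between the two generated subgroups. Elements are packed in
natural numbers by fixed-width digits.
-/

set_option autoImplicit false

namespace CfsgLib.ChevSimple.Two

/-- Digit `a` of width `w`. -/
def digit (w K a : ℕ) : ℕ := K / 2 ^ (w * a) % 2 ^ w

/-- Pack digits. -/
def pack (w : ℕ) : (ℕ → ℕ) → ℕ → ℕ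
  | _, 0 => 0
  | f, m + 1 => f 0 % 2 ^ w + 2 ^ w * pack w (fun a => f (a + 1)) m

theorem digit_succ (w K a : ℕ) : digit w K (a + 1) = digit w (K / 2 ^ w) a := by
  rw [digit, digit, Nat.div_div_eq_div_mul, mul_add, mul_one, pow_add, mul_comm (2 ^ (w * a))]

theorem digit_pack (w : ℕ) : ∀ (m : ℕ) (f : ℕ → ℕ) (a : ℕ), a < m →
    digit w (pack w f m) a = f a % 2 ^ w
  | 0, _, _, h => absurd h (Nat.not_lt_zero _)
  | m + 1, f, 0, _ => by simp [digit, pack, Nat.add_mod]
  | m + 1, f, a + 1, h => by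
    have hp : 0 < 2 ^ w := Nat.two_pow_pos w
    rw [digit_succ, pack, Nat.add_mul_div_left _ _ hp,
      Nat.div_eq_of_lt (Nat.mod_lt _ hp), zero_add]
    exact digit_pack w m (fun a => f (a + 1)) a (by omega)

theorem eq_of_digit_eq (w : ℕ) : ∀ (m K L : ℕ), K < 2 ^ (w * m) → L < 2 ^ (w * m) →
    (∀ a < m, digit w K a = digit w L a) → K = L
  | 0, K, L, hK, hL, _ => by simp at hK hL; omega
  | m + 1, K, L, hK, hL, h => by
    have h0 : K % 2 ^ w = L % 2 ^ w := by simpa [digit] using h 0 (by omega)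
    rw [mul_add, mul_one, pow_add] at hK hL
    have hp : 0 < 2 ^ w := Nat.two_pow_pos w
    have h1 := eq_of_digit_eq w m (K / 2 ^ w) (L / 2 ^ w)
      (Nat.div_lt_of_lt_mul (by rw [mul_comm]; exact hK))
      (Nat.div_lt_of_lt_mul (by rw [mul_comm]; exact hL))
      fun a ha => by rw [← digit_succ, ← digit_succ]; exact h (a + 1) (by omega)
    rw [← Nat.mod_add_div K (2 ^ w), ← Nat.mod_add_div L (2 ^ w), h0, h1]

theorem digit_lt (w K a : ℕ) : digit w K a < 2 ^ w := Nat.mod_lt _ (Nat.two_pow_pos w)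

/-- Two-level lookup. -/
def get2 (T : List (List ℕ)) (i : ℕ) : ℕ := (T.getD (i / 78) []).getD (i % 78) 0

/-- A table of matched pairs: the codes, the two successor maps, predecessors `2 j + k`, and the
positions sorted by the two codes. -/
structure Tab where
  /-- Number of entries. -/
  size : ℕ
  /-- First codes. -/
  g : List (List ℕ)
  /-- Second codes. -/
  h : List (List ℕ)
  /-- Successor by the first generator. -/
  na : List (List ℕ)
  /-- Successor by the second generator. -/
  nb : List (List ℕ)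
  /-- Predecessors. -/
  par : List (List ℕ)
  /-- Sorted by the first code. -/
  sg : List (List ℕ)
  /-- Sorted by the second code. -/
  sh : List (List ℕ)

variable (T : Tab) (bg bh : ℕ) (mg mh : ℕ → ℕ → ℕ) (ga gb ha hb : ℕ)

/-- The check at one entry. -/
def Tab.chkAt (i : ℕ) : Bool :=
  Nat.blt (get2 T.g i) bg && Nat.blt (get2 T.h i) bh &&
  Nat.blt (get2 T.na i) T.size && Nat.blt (get2 T.nb i) T.size &&
  mg (get2 T.g i) ga == get2 T.g (get2 T.na i) && mh (get2 T.h i) ha == get2 T.h (get2 T.na i) &&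
  mg (get2 T.g i) gb == get2 T.g (get2 T.nb i) && mh (get2 T.h i) hb == get2 T.h (get2 T.nb i) &&
  (i == 0 || (Nat.blt (get2 T.par i / 2) i &&
    get2 (bif get2 T.par i % 2 == 0 then T.na else T.nb) (get2 T.par i / 2) == i)) &&
  Nat.blt (get2 T.sg i) T.size && Nat.blt (get2 T.sh i) T.size &&
  (Nat.ble T.size (i + 1) || (Nat.blt (get2 T.g (get2 T.sg i)) (get2 T.g (get2 T.sg (i + 1))) &&
    Nat.blt (get2 T.h (get2 T.sh i)) (get2 T.h (get2 T.sh (i + 1)))))

/-- The checks on an interval. -/
def Tab.chkRange (lo len : ℕ) : Bool :=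
  (List.range len).all fun i => T.chkAt bg bh mg mh ga gb ha hb (lo + i)

/-- The facts at every entry. -/
def Tab.Good : Prop := ∀ i < T.size, T.chkAt bg bh mg mh ga gb ha hb i = true

variable {T bg bh mg mh ga gb ha hb}

theorem Tab.good_of_ranges (w k : ℕ) (hk : T.size ≤ w * k) (hw : 0 < w)
    (h : ∀ j < k, T.chkRange bg bh mg mh ga gb ha hb (w * j) (min w (T.size - w * j)) = true) :
    T.Good bg bh mg mh ga gb ha hb := by
  intro i hi
  have hj : i / w < k := (Nat.div_lt_iff_lt_mul hw).2 (by rw [mul_comm] at hk; omega)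
  have := h _ hj
  simp only [Tab.chkRange, List.all_eq_true, List.mem_range] at this
  have h1 := Nat.div_add_mod i w
  have h2 := Nat.mod_lt i hw
  have := this (i % w) (by omega)
  rwa [h1] at this

theorem injective_of_sorted {N : ℕ} (key : ℕ → ℕ) (s : ℕ → ℕ) (hs : ∀ i < N, s i < N)
    (hlt : ∀ i, i + 1 < N → key (s i) < key (s (i + 1))) :
    Function.Injective fun i : Fin N => key i := by
  let σ : Fin N → Fin N := fun i => ⟨s i, hs i i.isLt⟩
  have hmono : ∀ i j : ℕ, i < j → j < N → key (s i) < key (s j) := by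
    intro i j hij
    induction j, hij using Nat.le_induction with
    | base => exact hlt i
    | succ j hj ih => exact fun hjN => (ih (by omega)).trans (hlt j hjN)
  have hinj : Function.Injective σ := by
    intro i j h
    have h' : key (s i) = key (s j) := congrArg (fun x : Fin N => key x) h
    rcases lt_trichotomy (i : ℕ) j with hl | he | hl
    · exact absurd h' (hmono _ _ hl j.isLt).ne
    · exact Fin.ext he
    · exact absurd h'.symm (hmono _ _ hl i.isLt).ne
  have hsur := (Finite.injective_iff_surjective.1 hinj)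
  intro i j h
  obtain ⟨i', rfl⟩ := hsur i
  obtain ⟨j', rfl⟩ := hsur j
  rcases lt_trichotomy (i' : ℕ) j' with hl | he | hl
  · exact absurd h (hmono _ _ hl j'.isLt).ne
  · rw [Fin.ext he]
  · exact absurd h.symm (hmono _ _ hl i'.isLt).ne

/-- A good table gives an isomorphism of the generated subgroups, of order the table's size. -/
theorem Tab.exists_equiv {G H M N : Type*} [Group G] [Group H] [Finite G] [Finite H] [Monoid M]
    [Monoid N] (hT : T.Good bg bh mg mh ga gb ha hb)
    (rG : G →* M) (hG : Function.Injective rG) (rH : H →* N) (hH : Function.Injective rH)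
    (dG : ℕ → M) (dH : ℕ → N) (hmg : ∀ K, ∀ L ∈ [ga, gb], dG (mg K L) = dG K * dG L)
    (hmh : ∀ K, K < bh → ∀ L ∈ [ha, hb], dH (mh K L) = dH K * dH L)
    (hdG : ∀ K L, K < bg → L < bg → dG K = dG L → K = L)
    (hdH : ∀ K L, K < bh → L < bh → dH K = dH L → K = L)
    (hpos : 0 < T.size) (h0G : dG (get2 T.g 0) = 1) (h0H : dH (get2 T.h 0) = 1)
    (xa xb : G) (ya yb : H) (hxa : rG xa = dG ga) (hxb : rG xb = dG gb) (hya : rH ya = dH ha)
    (hyb : rH yb = dH hb) :
    Nat.card (Subgroup.closure {ya, yb}) = T.size ∧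
      Nonempty (Subgroup.closure {xa, xb} ≃* Subgroup.closure {ya, yb}) ∧
      ∀ g, g ∈ Subgroup.closure {xa, xb} ↔ ∃ i < T.size, rG g = dG (get2 T.g i) := by
  simp only [Tab.Good, Tab.chkAt, Bool.and_eq_true, Bool.or_eq_true, Nat.blt_eq, Nat.ble_eq,
    beq_iff_eq] at hT
  set P := Subgroup.closure ({(xa, ya), (xb, yb)} : Set (G × H)) with hP
  let r : G × H → M × N := fun p => (rG p.1, rH p.2)
  let el : ℕ → M × N := fun i => (dG (get2 T.g i), dH (get2 T.h i))
  have hstep : ∀ i < T.size, el i * r (xa, ya) = el (get2 T.na i) ∧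
      el i * r (xb, yb) = el (get2 T.nb i) := by
    intro i hi
    have h := hT i hi
    simp only [el, r, Prod.mk_mul_mk, hxa, hxb, hya, hyb]
    rw [← hmg _ ga (by simp), ← hmg _ gb (by simp), ← hmh _ h.1.1.1.1.1.1.1.1.1.1.2 ha (by simp),
      ← hmh _ h.1.1.1.1.1.1.1.1.1.1.2 hb (by simp), h.1.1.1.1.1.1.1.2, h.1.1.1.1.1.1.2,
      h.1.1.1.1.1.2, h.1.1.1.1.2]
    exact ⟨rfl, rfl⟩
  have hin : ∀ p ∈ P, ∃ i < T.size, r p = el i := by
    intro p hp
    have hp' : p ∈ Submonoid.closure ({(xa, ya), (xb, yb)} : Set (G × H)) := by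
      rwa [← Subgroup.closure_toSubmonoid_of_finite]
    induction hp' using Submonoid.closure_induction_right with
    | one => exact ⟨0, hpos, by simp [r, el, h0G, h0H]⟩
    | mul_right a hmem g hg ih =>
      obtain ⟨i, hi, hai⟩ := ih (by
        rw [hP, ← Subgroup.mem_toSubmonoid, Subgroup.closure_toSubmonoid_of_finite]; exact hmem)
      have hrmul : r (a * g) = r a * r g := by simp [r, Prod.mk_mul_mk]
      have h := hT i hi
      rcases hg with rfl | rfl
      · exact ⟨_, h.1.1.1.1.1.1.1.1.1.2, by rw [hrmul, hai, (hstep i hi).1]⟩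
      · exact ⟨_, h.1.1.1.1.1.1.1.1.2, by rw [hrmul, hai, (hstep i hi).2]⟩
  have hout : ∀ i, i < T.size → ∃ p ∈ P, r p = el i := by
    intro i
    induction i using Nat.strong_induction_on with
    | _ i ih =>
      intro hi
      rcases (hT i hi).1.1.1.2 with rfl | ⟨hlt, hnx⟩
      · exact ⟨1, P.one_mem, by simp [r, el, h0G, h0H]⟩
      · set j := get2 T.par i / 2 with hj
        obtain ⟨p, hp, hpe⟩ := ih j hlt (hlt.trans hi)
        have hrmul : ∀ g, r (p * g) = r p * r g := fun g => by simp [r, Prod.mk_mul_mk]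
        cases hb' : (get2 T.par i % 2 == 0) with
        | true =>
          rw [hb', cond_true] at hnx
          exact ⟨p * (xa, ya), P.mul_mem hp (Subgroup.subset_closure (Or.inl rfl)),
            by rw [hrmul, hpe, (hstep j (hlt.trans hi)).1, hnx]⟩
        | false =>
          rw [hb', cond_false] at hnx
          exact ⟨p * (xb, yb), P.mul_mem hp (Subgroup.subset_closure (Or.inr rfl)),
            by rw [hrmul, hpe, (hstep j (hlt.trans hi)).2, hnx]⟩
  have hiG : Function.Injective fun i : Fin T.size => get2 T.g i :=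
    injective_of_sorted (get2 T.g) (get2 T.sg) (fun i hi => (hT i hi).1.1.2) fun i hi =>
      (((hT i (by omega)).2).resolve_left (by omega)).1
  have hiH : Function.Injective fun i : Fin T.size => get2 T.h i :=
    injective_of_sorted (get2 T.h) (get2 T.sh) (fun i hi => (hT i hi).1.2) fun i hi =>
      (((hT i (by omega)).2).resolve_left (by omega)).2
  have hg : ∀ i < T.size, get2 T.g i < bg := fun i hi => (hT i hi).1.1.1.1.1.1.1.1.1.1.1
  have hh : ∀ i < T.size, get2 T.h i < bh := fun i hi => (hT i hi).1.1.1.1.1.1.1.1.1.1.2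
  let f1 := (MonoidHom.fst G H).comp P.subtype
  let f2 := (MonoidHom.snd G H).comp P.subtype
  have inj1 : Function.Injective f1 := by
    intro p q hpq
    obtain ⟨i, hi, hpi⟩ := hin p p.2
    obtain ⟨j, hj, hqj⟩ := hin q q.2
    have e : (p : G × H).1 = (q : G × H).1 := hpq
    simp only [r, el, Prod.mk.injEq] at hpi hqj
    have h1 : dG (get2 T.g i) = dG (get2 T.g j) := by
      rw [← hpi.1, ← hqj.1]; exact congrArg rG e
    have hij : (⟨i, hi⟩ : Fin T.size) = ⟨j, hj⟩ := hiG (hdG _ _ (hg i hi) (hg j hj) h1)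
    have e2 : rH (p : G × H).2 = rH (q : G × H).2 := by
      rw [hpi.2, hqj.2]; rw [show i = j from congrArg Fin.val hij]
    exact Subtype.ext (Prod.ext e (hH e2))
  have inj2 : Function.Injective f2 := by
    intro p q hpq
    obtain ⟨i, hi, hpi⟩ := hin p p.2
    obtain ⟨j, hj, hqj⟩ := hin q q.2
    have e : (p : G × H).2 = (q : G × H).2 := hpq
    simp only [r, el, Prod.mk.injEq] at hpi hqj
    have h1 : dH (get2 T.h i) = dH (get2 T.h j) := by
      rw [← hpi.2, ← hqj.2]; exact congrArg rH e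
    have hij : (⟨i, hi⟩ : Fin T.size) = ⟨j, hj⟩ := hiH (hdH _ _ (hh i hi) (hh j hj) h1)
    have e2 : rG (p : G × H).1 = rG (q : G × H).1 := by
      rw [hpi.1, hqj.1]; rw [show i = j from congrArg Fin.val hij]
    exact Subtype.ext (Prod.ext (hG e2) e)
  have r1 : f1.range = Subgroup.closure {xa, xb} := by
    rw [MonoidHom.range_comp, Subgroup.range_subtype, hP, MonoidHom.map_closure, Set.image_pair]
    rfl
  have r2 : f2.range = Subgroup.closure {ya, yb} := by
    rw [MonoidHom.range_comp, Subgroup.range_subtype, hP, MonoidHom.map_closure, Set.image_pair]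
    rfl
  have hcard : Nat.card P = T.size := by
    choose f hf hfe using hin
    refine Eq.trans (Nat.card_eq_of_bijective (fun p : P => (⟨f p.1 p.2, hf p.1 p.2⟩ : Fin T.size))
      ⟨fun p q hpq => ?_, fun i => ?_⟩) (Nat.card_fin _)
    · refine inj1 (hG ?_)
      have e : f p.1 p.2 = f q.1 q.2 := congrArg Fin.val hpq
      show (r p.1).1 = (r q.1).1
      rw [hfe p.1 p.2, hfe q.1 q.2, e]
    · obtain ⟨p, hp, hpe⟩ := hout i i.isLt
      refine ⟨⟨p, hp⟩, hiG ?_⟩
      have he := (hfe p hp).symm.trans hpe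
      exact hdG _ _ (hg _ (hf p hp)) (hg _ i.isLt) (congrArg Prod.fst he)
  refine ⟨?_, ⟨((MulEquiv.subgroupCongr r1).symm.trans (MonoidHom.ofInjective inj1).symm).trans
    ((MonoidHom.ofInjective inj2).trans (MulEquiv.subgroupCongr r2))⟩, fun g => ⟨?_, ?_⟩⟩
  · rw [← hcard, ← r2]
    exact (Nat.card_congr (MonoidHom.ofInjective inj2).toEquiv).symm
  · intro hgm
    rw [← r1] at hgm
    obtain ⟨p, rfl⟩ := hgm
    obtain ⟨i, hi, hpi⟩ := hin p p.2
    exact ⟨i, hi, congrArg Prod.fst hpi⟩
  · rintro ⟨i, hi, hge⟩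
    obtain ⟨p, hp, hpe⟩ := hout i hi
    rw [← r1]
    exact ⟨⟨p, hp⟩, hG ((congrArg Prod.fst hpe).trans hge.symm)⟩

end CfsgLib.ChevSimple.Two
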